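import Cfsg.Agent.Lib.Spor.Top
import Cfsg.Agent.Lib.Spor.MatP

/-! Words as lists of letter codes (`2j` = letter `j`, `2j+1` its inverse); row tests; diagonal trick. -/

set_option autoImplicit false

namespace Cfsg.Agent.Lib.Lyons

open Cfsg.Agent.PG Cfsg.Agent.Spor Subgroup

variable {Γ Δ : Type*} [Group Γ] [Group Δ]

/-- value of a list of letter codes -/
noncomputable def ew (γ : ℕ → Γ) (l : List ℕ) : Γ := (l.map (Spor.lpG γ)).prod

@[simp] theorem ew_nil (γ : ℕ → Γ) : ew γ [] = 1 := rfl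

@[simp] theorem ew_cons (γ : ℕ → Γ) (c : ℕ) (l : List ℕ) : ew γ (c :: l) = Spor.lpG γ c * ew γ l := by
  simp [ew]

@[simp] theorem ew_append (γ : ℕ → Γ) (l l' : List ℕ) : ew γ (l ++ l') = ew γ l * ew γ l' := by
  simp [ew]

theorem lpG_even (γ : ℕ → Γ) (j : ℕ) : Spor.lpG γ (2 * j) = γ j := by
  unfold Spor.lpG; rw [if_neg (by omega)]; congr 1; omega

theorem lpG_odd (γ : ℕ → Γ) (j : ℕ) : Spor.lpG γ (2 * j + 1) = (γ j)⁻¹ := by
  unfold Spor.lpG; rw [if_pos (by omega)]; congr 2; omega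

/-- the inverse word -/
noncomputable def wi (l : List ℕ) : List ℕ :=
  List.rec (motive := fun _ => List ℕ → List ℕ) (fun a => a) (fun c _ ih a => ih (Nat.xor c 1 :: a)) l []

theorem ew_wi_aux (γ : ℕ → Γ) (l a : List ℕ) : ew γ (List.rec (motive := fun _ => List ℕ → List ℕ)
    (fun a => a) (fun c _ ih a => ih (Nat.xor c 1 :: a)) l a) = (ew γ l)⁻¹ * ew γ a := by
  induction l generalizing a with
  | nil => simp
  | cons c l ih =>
    refine (ih (Nat.xor c 1 :: a)).trans ?_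
    have : Spor.lpG γ (Nat.xor c 1) = (Spor.lpG γ c)⁻¹ := lpG_xor_one γ c
    rw [ew_cons, ew_cons, this]; group

@[simp] theorem ew_wi (γ : ℕ → Γ) (l : List ℕ) : ew γ (wi l) = (ew γ l)⁻¹ := by
  unfold wi; rw [ew_wi_aux]; simp

/-- a word repeated -/
def wpow (l : List ℕ) : ℕ → List ℕ
  | 0 => []
  | n + 1 => l ++ wpow l n

@[simp] theorem ew_wpow (γ : ℕ → Γ) (l : List ℕ) (n : ℕ) : ew γ (wpow l n) = ew γ l ^ n := by
  induction n with
  | zero => simp [wpow]
  | succ n ih => rw [wpow, ew_append, ih, pow_succ']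

theorem map_lpG (f : Γ →* Δ) (γ : ℕ → Γ) (c : ℕ) : f (Spor.lpG γ c) = Spor.lpG (fun j => f (γ j)) c := by
  unfold Spor.lpG; split_ifs <;> simp

theorem map_ew (f : Γ →* Δ) (γ : ℕ → Γ) (l : List ℕ) : f (ew γ l) = ew (fun j => f (γ j)) l := by
  induction l with
  | nil => simp
  | cons c l ih => rw [ew_cons, ew_cons, map_mul, ih, map_lpG]

theorem ew_congr {γ γ' : ℕ → Γ} {l : List ℕ} (h : ∀ c ∈ l, γ (c / 2) = γ' (c / 2)) : ew γ l = ew γ' l := by
  induction l with
  | nil => simp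
  | cons c l ih =>
    rw [ew_cons, ew_cons, ih fun d hd => h d (List.mem_cons_of_mem _ hd)]
    unfold Spor.lpG; rw [h c List.mem_cons_self]

theorem ew_mem {γ : ℕ → Γ} {Q : Subgroup Γ} {l : List ℕ} (h : ∀ c ∈ l, γ (c / 2) ∈ Q) : ew γ l ∈ Q := by
  induction l with
  | nil => simp
  | cons c l ih =>
    rw [ew_cons]
    refine Q.mul_mem ?_ (ih fun d hd => h d (List.mem_cons_of_mem _ hd))
    have := h c List.mem_cons_self
    unfold Spor.lpG; split_ifs
    · exact Q.inv_mem this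
    · exact this

theorem ew_prod (γ : ℕ → Γ) (δ : ℕ → Δ) (l : List ℕ) :
    ew (fun j => (γ j, δ j)) l = (ew γ l, ew δ l) :=
  Prod.ext (map_ew (MonoidHom.fst Γ Δ) _ l) (map_ew (MonoidHom.snd Γ Δ) _ l)

/-- an equation between words -/
abbrev Eqn : Type := List ℕ × List ℕ

/-- the equation holds -/
def Sat (γ : ℕ → Γ) (c : Eqn) : Prop := ew γ c.1 = ew γ c.2

theorem Sat.map {γ : ℕ → Γ} {c : Eqn} (h : Sat γ c) (f : Γ →* Δ) : Sat (fun j => f (γ j)) c := by
  unfold Sat at *; rw [← map_ew, ← map_ew, h]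

theorem Sat.prod {γ : ℕ → Γ} {δ : ℕ → Δ} {c : Eqn} (h : Sat γ c) (h' : Sat δ c) :
    Sat (fun j => (γ j, δ j)) c := by
  unfold Sat at *; rw [ew_prod, ew_prod, h, h']

/-- run a list of letters -/
noncomputable def lev (ap : ℕ → ℕ → ℕ) (l : List ℕ) : ℕ → ℕ :=
  List.rec (motive := fun _ => ℕ → ℕ) (fun v => v) (fun c _ ih v => force c fun c' => force (ap c' v) ih) l

theorem lev_spec {γ : ℕ → Γ} {ap : ℕ → ℕ → ℕ} {R : ℕ → Γ → Prop}
    (h : ∀ c X g, R X g → R (ap c X) (g * Spor.lpG γ c)) (l : List ℕ) {X : ℕ} {g : Γ} (hX : R X g) :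
    R (lev ap l X) (g * ew γ l) := by
  induction l generalizing X g with
  | nil => rw [ew_nil, mul_one]; exact hX
  | cons c l ih =>
    have : lev ap (c :: l) X = lev ap l (ap c X) := by
      show force c (fun c' => force (ap c' X) (lev ap l)) = _
      rw [force_eq, force_eq]
    rw [this, ew_cons, ← mul_assoc]
    exact ih (h c X g hX)

theorem levM_spec {P : Par} {L : Lets} (h : Good P L) {r0 m : ℕ} (hm : r0 + m ≤ P.n)
    (l : List ℕ) : Rp P r0 m (lev (apM P L (ones P.w (m * P.n)) (msk P.w * ones (P.w * P.n) m)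
      (msk P.k * ones P.w P.n)) l (idS P r0 m)) ((ew (gam P L) l : GL _ _) : Matrix _ _ _) := by
  have := lev_spec (γ := gam P L) (R := fun X (g : GL (Fin P.n) (ZMod P.p)) => Rp P r0 m X g)
    (apM_spec h r0 m) l (g := 1) (idS_spec h.1 hm)
  rwa [one_mul] at this

/-- the equation holds in the rows `r0, …, r0 + m - 1` -/
def SatR (P : Par) (L : Lets) (r0 m : ℕ) (c : Eqn) : Prop :=
  ∀ r : Fin P.n, r0 ≤ r → r < r0 + m →
    (ew (gam P L) c.1 : GL _ _).1 r = (ew (gam P L) c.2 : GL _ _).1 r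

/-- test of equations in some rows -/
noncomputable def rowB (P : Par) (L : Lets) (r0 m : ℕ) (l : List Eqn) : Bool :=
  andB (Nat.ble (Nat.add r0 m) P.n) <|
  force (ones P.w (Nat.mul m P.n)) fun on =>
  force (Nat.mul (msk P.w) (ones (Nat.mul P.w P.n) m)) fun cm =>
  force (Nat.mul (msk P.k) (ones P.w P.n)) fun lo => force (idS P r0 m) fun X =>
  allL l fun c => eqT P on (lev (apM P L on cm lo) c.1 X) (lev (apM P L on cm lo) c.2 X)

theorem rowB_spec {P : Par} {L : Lets} (h : Good P L) {r0 m : ℕ} {l : List Eqn}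
    (hl : rowB P L r0 m l = true) : ∀ c ∈ l, SatR P L r0 m c := by
  unfold rowB at hl
  simp only [force_eq, andB_eq, Bool.and_eq_true, Nat.ble_eq] at hl
  intro c hc r h1 h2
  exact eqT_spec h.1 (levM_spec h hl.1 c.1) (levM_spec h hl.1 c.2) (allL_spec hl.2 c hc) r h1 h2

theorem matB_spec {P : Par} {L : Lets} (h : Good P L) {l : List Eqn}
    (hl : rowB P L 0 P.n l = true) : ∀ c ∈ l, Sat (gam P L) c := fun c hc =>
  Units.ext (funext fun r => rowB_spec h hl c hc r (Nat.zero_le _) (by simp))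

/-- test that row `r` of a word is not row `r` of the identity -/
noncomputable def rowN (P : Par) (L : Lets) (r s : ℕ) (l : List ℕ) : Bool :=
  force (ones P.w (Nat.mul 1 P.n)) fun on =>
  force (Nat.mul (msk P.w) (ones (Nat.mul P.w P.n) 1)) fun cm =>
  force (Nat.mul (msk P.k) (ones P.w P.n)) fun lo =>
  andB (Nat.blt s P.n) <| force (idS P r 1) fun X => neT P s (lev (apM P L on cm lo) l X) X

theorem rowN_spec {P : Par} {L : Lets} (h : Good P L) {r : Fin P.n} {s : ℕ} {l : List ℕ}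
    (hl : rowN P L r s l = true) :
    (ew (gam P L) l : GL _ _).1 r ≠ (1 : GL (Fin P.n) (ZMod P.p)).1 r := by
  unfold rowN at hl
  simp only [force_eq, andB_eq, Bool.and_eq_true, Nat.blt_eq] at hl
  intro e
  have h1 := levM_spec h (r0 := r) (m := 1) r.2 l
  have h2 := idS_spec h.1 (r0 := r) (m := 1) r.2
  refine neT_spec h.1 r.2 hl.1 (M := 1) ?_ h2 hl.2 rfl
  obtain ⟨f, f1, f2, f3⟩ := h1
  refine ⟨f, f1, f2, fun r' s' a b => ?_⟩
  have : r' = r := Fin.ext (by omega)
  rw [f3 r' s' a b, this, e]; rfl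

theorem row_cancel {n R : Type*} [Fintype n] [DecidableEq n] [CommRing R] {z M : GL n R} {r : n}
    (h : (z * M).1 r = M.1 r) : z.1 r = (1 : GL n R).1 r := by
  have e : ∀ A B : GL n R, (A * B).1 r = Matrix.vecMul (A.1 r) B.1 := fun A B => by
    ext s; simp [Matrix.mul_apply, Matrix.vecMul, dotProduct]
  have h1 : z = z * M * M⁻¹ := by group
  have h2 : (1 : GL n R) = M * M⁻¹ := by group
  rw [h1, h2, e (z * M), e M, h]

/-- run a word on a bitmap -/
noncomputable def lapp1 (A : List Net) (l : List ℕ) (v : ℕ) : ℕ := lev (lapp A fun m => m) l v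

theorem testBit_lapp1 {N : ℕ} {A : List Net} (h : okA N A = true) (l : List ℕ) (v i : ℕ) :
    (lapp1 A l v).testBit i = v.testBit (ew (gp A) l i) := by
  have := lev_spec (γ := gp A) (ap := lapp A fun m => m)
    (R := fun X (g : Equiv.Perm ℕ) => ∀ i, X.testBit i = v.testBit (g i))
    (fun c X g hX i => by rw [(lapp_ev 0 h c).2.1 X i, hX]; rfl) l (X := v) (g := 1) (fun _ => rfl) i
  rwa [one_mul] at this

/-- the diagonal trick -/
theorem hom_of_bound {S ι : Type*} [Group S] {δ : ι → S} (hδ : closure (Set.range δ) = ⊤) {γ : ι → Γ}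
    (hf : Finite (closure (Set.range fun i => (δ i, γ i))))
    (hc : Nat.card (closure (Set.range fun i => (δ i, γ i))) ≤ Nat.card S) :
    ∃ φ : S →* Γ, ∀ i, φ (δ i) = γ i := by
  set D := closure (Set.range fun i => (δ i, γ i))
  let p : D →* S := (MonoidHom.fst S Γ).comp D.subtype
  have hs : Function.Surjective p := by
    rw [← MonoidHom.range_eq_top, eq_top_iff, ← hδ, closure_le]
    rintro _ ⟨i, rfl⟩
    exact ⟨⟨(δ i, γ i), subset_closure ⟨i, rfl⟩⟩, rfl⟩
  have hb : Function.Bijective p := hs.bijective_of_nat_card_le hc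
  let e := MulEquiv.ofBijective p hb
  refine ⟨((MonoidHom.snd S Γ).comp D.subtype).comp e.symm.toMonoidHom, fun i => ?_⟩
  have : e.symm (δ i) = ⟨(δ i, γ i), subset_closure ⟨i, rfl⟩⟩ := e.symm_apply_eq.2 rfl
  simp [this]

end Cfsg.Agent.Lib.Lyons
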