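import Cfsg.Agent.Lib.Lyons.Base

/-! Double coset enumeration with homotopy scripts. -/

set_option autoImplicit false

namespace Cfsg.Agent.Lib.Lyons

open Cfsg.Agent.PG Cfsg.Agent.Spor Subgroup Equiv

variable {Γ : Type*} [Group Γ]

/-- append -/
noncomputable def app {α : Type} (a b : List α) : List α :=
  List.rec (motive := fun _ => List α) b (fun c _ ih => c :: ih) a

/-- evaluate a list of numbers -/
noncomputable def forceL (l : List ℕ) : (List ℕ → Bool) → Bool :=
  List.rec (motive := fun _ => (List ℕ → Bool) → Bool) (fun k => k [])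
    (fun c _ ih k => force c fun c' => ih fun l' => k (c' :: l')) l

/-- evaluate a list of lists -/
noncomputable def forceLL (l : List (List ℕ)) : (List (List ℕ) → Bool) → Bool :=
  List.rec (motive := fun _ => (List (List ℕ) → Bool) → Bool) (fun k => k [])
    (fun c _ ih k => forceL c fun c' => ih fun l' => k (c' :: l')) l

/-- unpack a word (base 64, first letter lowest, end mark 1), with fuel -/
noncomputable def unpF (f : ℕ) : ℕ → List ℕ :=
  Nat.rec (motive := fun _ => ℕ → List ℕ) (fun _ => [])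
    (fun _ ih w => iteB (Nat.ble w 1) [] (force (Nat.div w 64) fun w' => Nat.mod w 64 :: ih w')) f

/-- unpack a word -/
noncomputable def unp (w : ℕ) : List ℕ := unpF w w

/-- `s c₁ s c₂ ⋯ s c_k` -/
noncomputable def pt (γ : ℕ → Γ) (s : Γ) (L : List (List ℕ)) : Γ := (L.map fun h => s * ew γ h).prod

/-- conjugation of a word in the letters `≥ t` by `s` -/
noncomputable def tw (t : ℕ) (af : List ℕ) (k : List ℕ) : List ℕ :=
  List.rec (motive := fun _ => List ℕ) []
    (fun c _ ih => Nat.xor (nthD 0 af (Nat.sub (Nat.div c 2) t)) (Nat.mod c 2) :: ih) k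

/-- only letters in `[t, t + af.length)` -/
noncomputable def inK (t : ℕ) (af : List ℕ) (k : List ℕ) : Bool :=
  allL k fun c => andB (Nat.ble t (Nat.div c 2)) (Nat.blt (Nat.div c 2) (Nat.add t af.length))

/-- the reversed list of inverses -/
noncomputable def rvi (R : List (List ℕ)) : List (List ℕ) :=
  List.rec (motive := fun _ => List (List ℕ) → List (List ℕ)) (fun a => a) (fun c _ ih a => ih (wi c :: a)) R []

/-- variants of a relator: rotation by `v / 2`, after inversion if `v` is odd -/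
noncomputable def var (R : List (List ℕ)) (v : ℕ) : List (List ℕ) :=
  (fun R' => app (R'.drop (Nat.div v 2)) (R'.take (Nat.div v 2))) (iteB (Nat.beq (Nat.mod v 2) 1) (rvi R) R)

/-- apply `f` at position `i` -/
noncomputable def atL (f : List (List ℕ) → (List (List ℕ) → Bool) → Bool) (i : ℕ) :
    List (List ℕ) → (List (List ℕ) → Bool) → Bool :=
  Nat.rec (motive := fun _ => List (List ℕ) → (List (List ℕ) → Bool) → Bool) f
    (fun _ ih L k => List.rec (motive := fun _ => Bool) false (fun h l _ => ih l fun l' => k (h :: l')) L) i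

/-- `h ↦ u c₁, c₂, …, c_r, u⁻¹ h` -/
noncomputable def insF (R : List (List ℕ)) (u : List ℕ) (L : List (List ℕ)) (k : List (List ℕ) → Bool) : Bool :=
  List.rec (motive := fun _ => Bool) false (fun h l _ =>
    List.rec (motive := fun _ => Bool) false (fun c R' _ =>
      forceLL (app u c :: app R' [app (wi u) h]) fun n => k (app n l)) R) L

/-- `h₁, h, h₂ ↦ h₁ (s κ s) h₂` if `h = κ` -/
noncomputable def canF (ok : List ℕ → List ℕ → Bool) (t : ℕ) (af : List ℕ) (κ : List ℕ) (L : List (List ℕ))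
    (k : List (List ℕ) → Bool) : Bool :=
  List.rec (motive := fun _ => Bool) false (fun h1 l1 _ =>
    List.rec (motive := fun _ => Bool) false (fun h l2 _ =>
      List.rec (motive := fun _ => Bool) false (fun h2 l _ =>
        andB (inK t af κ) <| andB (ok h κ) <|
          forceL (app h1 (app (tw t af κ) h2)) fun n => k (n :: l)) l2) l1) L

/-- `h ↦ h'` if `h = h'` -/
noncomputable def renF (ok : List ℕ → List ℕ → Bool) (h' : List ℕ) (L : List (List ℕ))
    (k : List (List ℕ) → Bool) : Bool :=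
  List.rec (motive := fun _ => Bool) false (fun h l _ => andB (ok h h') (k (h' :: l))) L

/-- run a script; a move is `op + 4 * i + 256 * (32 * r + v) + 2 ^ 24 * word` -/
noncomputable def run (ok : List ℕ → List ℕ → Bool) (t : ℕ) (af : List ℕ) (rels : List (List (List ℕ)))
    (fin : List (List ℕ) → Bool) (ms : List ℕ) : List (List ℕ) → Bool :=
  List.rec (motive := fun _ => List (List ℕ) → Bool) fin (fun m _ ih L =>
    forceL (unp (Nat.shiftRight m 24)) fun w =>
    force (Nat.mod (Nat.div m 4) 64) fun i => force (Nat.mod m 4) fun op =>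
    atL (iteB (Nat.beq op 0)
      (insF (var (nthD [] rels (Nat.mod (Nat.div m 8192) 2048)) (Nat.mod (Nat.div m 256) 32)) w)
      (iteB (Nat.beq op 1) (canF ok t af w) (renF ok w))) i L ih) ms

/-- the hypotheses on the letters -/
structure Tw (γ : ℕ → Γ) (s : Γ) (ok : List ℕ → List ℕ → Bool) (t : ℕ) (af : List ℕ) : Prop where
  ss : s * s = 1
  tw : ∀ j < af.length, s * γ (t + j) * s = Spor.lpG γ (af.getD j 0)
  ok : ∀ a b, ok a b = true → ew γ a = ew γ b

/-- the list has one entry, and it passes the test -/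
noncomputable def one (p : List ℕ → Bool) (L : List (List ℕ)) : Bool :=
  List.rec (motive := fun _ => Bool) false (fun h l _ =>
    List.rec (motive := fun _ => Bool) (p h) (fun _ _ _ => false) l) L

variable {γ : ℕ → Γ} {s : Γ} {ok : List ℕ → List ℕ → Bool} {t : ℕ} {af : List ℕ}

theorem app_eq {α : Type} (a b : List α) : app a b = a ++ b := by
  induction a with
  | nil => rfl
  | cons c a ih => exact congrArg (c :: ·) ih

theorem forceL_eq (l : List ℕ) (k : List ℕ → Bool) : forceL l k = k l := by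
  induction l generalizing k with
  | nil => rfl
  | cons c l ih =>
    show force c (fun c' => forceL l fun l' => k (c' :: l')) = _
    rw [force_eq, ih]

theorem forceLL_eq (l : List (List ℕ)) (k : List (List ℕ) → Bool) : forceLL l k = k l := by
  induction l generalizing k with
  | nil => rfl
  | cons c l ih =>
    show forceL c (fun c' => forceLL l fun l' => k (c' :: l')) = _
    rw [forceL_eq, ih]

@[simp] theorem pt_nil : pt γ s [] = 1 := rfl

@[simp] theorem pt_cons (h : List ℕ) (L : List (List ℕ)) : pt γ s (h :: L) = s * ew γ h * pt γ s L := by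
  simp [pt]

@[simp] theorem pt_append (L L' : List (List ℕ)) : pt γ s (L ++ L') = pt γ s L * pt γ s L' := by
  simp [pt]

theorem Tw.inv (h : Tw γ s ok t af) : s⁻¹ = s := inv_eq_of_mul_eq_one_right h.ss

theorem Tw.ew_tw (h : Tw γ s ok t af) {κ : List ℕ} (hk : inK t af κ = true) :
    ew γ (Lyons.tw t af κ) = s * ew γ κ * s := by
  induction κ with
  | nil => exact (by simpa using h.ss : s * ew γ [] * s = 1).symm
  | cons c κ ih =>
    have hk' : andB (andB (Nat.ble t (Nat.div c 2)) (Nat.blt (Nat.div c 2) (Nat.add t af.length)))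
      (inK t af κ) = true := hk
    simp only [andB_eq, Bool.and_eq_true, Nat.ble_eq, Nat.blt_eq] at hk'
    obtain ⟨⟨h1, h2⟩, h3⟩ := hk'
    replace h1 : t ≤ c / 2 := h1
    replace h2 : c / 2 < t + af.length := h2
    have e : Lyons.tw t af (c :: κ) = (nthD 0 af (c / 2 - t) ^^^ (c % 2)) :: Lyons.tw t af κ := rfl
    have e1 := h.tw (c / 2 - t) (by omega)
    rw [show t + (c / 2 - t) = c / 2 by omega] at e1
    have e2 : Spor.lpG γ (nthD 0 af (c / 2 - t) ^^^ (c % 2)) = s * Spor.lpG γ c * s := by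
      rw [nthD_eq]
      rcases Nat.mod_two_eq_zero_or_one c with h0 | h0
      · rw [h0, Nat.xor_zero, ← e1]; unfold Spor.lpG; rw [if_neg (by omega)]
      · rw [h0, lpG_xor_one, ← e1]; unfold Spor.lpG; rw [if_pos h0, mul_inv_rev, mul_inv_rev, h.inv, mul_assoc]
    rw [e, ew_cons, ew_cons, ih h3, e2]
    calc _ = s * Spor.lpG γ c * (s * s) * ew γ κ * s := by group
      _ = _ := by rw [h.ss]; group

theorem pt_rvi_aux (hs : s * s = 1) (R a : List (List ℕ)) :
    pt γ s (List.rec (motive := fun _ => List (List ℕ) → List (List ℕ)) (fun a => a)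
      (fun c _ ih a => ih (wi c :: a)) R a) = s * (pt γ s R)⁻¹ * s * pt γ s a := by
  induction R generalizing a with
  | nil => simp [hs]
  | cons c R ih =>
    refine (ih (wi c :: a)).trans ?_
    rw [pt_cons, pt_cons, ew_wi]
    calc _ = s * (pt γ s R)⁻¹ * (s * s) * (ew γ c)⁻¹ * pt γ s a := by group
      _ = _ := by rw [hs]; group

theorem pt_rvi (hs : s * s = 1) (R : List (List ℕ)) : pt γ s (rvi R) = s * (pt γ s R)⁻¹ * s := by
  unfold rvi; rw [pt_rvi_aux hs, pt_nil, mul_one]

theorem pt_var (hs : s * s = 1) {R : List (List ℕ)} (hR : pt γ s R = 1) (v : ℕ) : pt γ s (var R v) = 1 := by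
  have key : ∀ R' : List (List ℕ), pt γ s R' = 1 → ∀ n, pt γ s (app (R'.drop n) (R'.take n)) = 1 := by
    intro R' h n
    rw [← List.take_append_drop n R', pt_append] at h
    rw [app_eq, pt_append]
    exact mul_eq_one_comm.1 h
  unfold var
  refine key _ ?_ _
  cases Nat.beq (Nat.mod v 2) 1
  · exact hR
  · rw [iteB_true, pt_rvi hs, hR]; simpa using hs

/-- a move preserves the value -/
def Mv (γ : ℕ → Γ) (s : Γ) (f : List (List ℕ) → (List (List ℕ) → Bool) → Bool) : Prop :=
  ∀ L k, f L k = true → ∃ L', k L' = true ∧ pt γ s L' = pt γ s L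

theorem mv_atL {f : List (List ℕ) → (List (List ℕ) → Bool) → Bool} (hf : Mv γ s f) (i : ℕ) :
    Mv γ s (atL f i) := by
  induction i with
  | zero => exact hf
  | succ i ih =>
    intro L k hk
    cases L with
    | nil => exact absurd hk Bool.false_ne_true
    | cons h l =>
      obtain ⟨L', h1, h2⟩ := ih l (fun l' => k (h :: l')) hk
      exact ⟨h :: L', h1, by rw [pt_cons, pt_cons, h2]⟩

theorem mv_insF (hs : s * s = 1) {R : List (List ℕ)} (hR : pt γ s R = 1) (u : List ℕ) : Mv γ s (insF R u) := by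
  intro L k hk
  cases L with
  | nil => exact absurd hk Bool.false_ne_true
  | cons h l =>
    cases R with
    | nil => exact absurd hk Bool.false_ne_true
    | cons c R' =>
      have hk' : forceLL (app u c :: app R' [app (wi u) h]) (fun n => k (app n l)) = true := hk
      rw [forceLL_eq] at hk'
      refine ⟨_, hk', ?_⟩
      have e : ew γ c * pt γ s R' * s = 1 := by
        rw [pt_cons, mul_assoc] at hR
        exact mul_eq_one_comm.1 hR
      simp only [app_eq, pt_append, pt_cons, pt_nil, ew_append, ew_wi]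
      calc _ = s * ew γ u * (ew γ c * pt γ s R' * s) * (ew γ u)⁻¹ * ew γ h * pt γ s l := by group
        _ = _ := by rw [e]; group

theorem mv_canF (h : Tw γ s ok t af) (κ : List ℕ) : Mv γ s (canF ok t af κ) := by
  intro L k hk
  rcases L with _ | ⟨h1, _ | ⟨h0, _ | ⟨h2, l⟩⟩⟩
  · exact absurd hk Bool.false_ne_true
  · exact absurd hk Bool.false_ne_true
  · exact absurd hk Bool.false_ne_true
  · have hk' : (andB (inK t af κ) <| andB (ok h0 κ) <|
      forceL (app h1 (app (Lyons.tw t af κ) h2)) fun n => k (n :: l)) = true := hk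
    simp only [andB_eq, Bool.and_eq_true, forceL_eq] at hk'
    refine ⟨_, hk'.2.2, ?_⟩
    simp only [app_eq, pt_cons, ew_append, h.ew_tw hk'.1, h.ok _ _ hk'.2.1]
    group

theorem mv_renF (h : Tw γ s ok t af) (h' : List ℕ) : Mv γ s (renF ok h') := by
  intro L k hk
  cases L with
  | nil => exact absurd hk Bool.false_ne_true
  | cons h0 l =>
    have hk' : andB (ok h0 h') (k (h' :: l)) = true := hk
    simp only [andB_eq, Bool.and_eq_true] at hk'
    exact ⟨_, hk'.2, by rw [pt_cons, pt_cons, h.ok _ _ hk'.1]⟩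

theorem run_spec (h : Tw γ s ok t af) {rels : List (List (List ℕ))} (hr : ∀ R ∈ rels, pt γ s R = 1)
    {fin : List (List ℕ) → Bool} {ms : List ℕ} {L : List (List ℕ)} (hrun : run ok t af rels fin ms L = true) :
    ∃ L', fin L' = true ∧ pt γ s L' = pt γ s L := by
  induction ms generalizing L with
  | nil => exact ⟨L, hrun, rfl⟩
  | cons m ms ih =>
    have h1 : (forceL (unp (Nat.shiftRight m 24)) fun w =>
      force (Nat.mod (Nat.div m 4) 64) fun i => force (Nat.mod m 4) fun op =>
      atL (iteB (Nat.beq op 0)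
        (insF (var (nthD [] rels (Nat.mod (Nat.div m 8192) 2048)) (Nat.mod (Nat.div m 256) 32)) w)
        (iteB (Nat.beq op 1) (canF ok t af w) (renF ok w))) i L (run ok t af rels fin ms)) = true := hrun
    rw [forceL_eq, force_eq, force_eq] at h1
    obtain ⟨L1, h2, h3⟩ := mv_atL (γ := γ) (s := s) (by
      cases Nat.beq (Nat.mod m 4) 0
      · cases Nat.beq (Nat.mod m 4) 1
        · exact mv_renF h _
        · exact mv_canF h _
      · refine mv_insF h.ss (pt_var h.ss ?_ _) _
        rcases nthD_mem_or [] rels (Nat.mod (Nat.div m 8192) 2048) with e | e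
        · rw [e]; rfl
        · exact hr _ e) _ _ _ h1
    obtain ⟨L2, h4, h5⟩ := ih h2
    exact ⟨L2, h4, h5.trans h3⟩

theorem one_spec {p : List ℕ → Bool} {L : List (List ℕ)} (h : one p L = true) : ∃ a, L = [a] ∧ p a = true := by
  rcases L with _ | ⟨a, _ | ⟨b, l⟩⟩
  · exact absurd h Bool.false_ne_true
  · exact ⟨a, rfl, h⟩
  · exact absurd h Bool.false_ne_true

/-- a new relator -/
noncomputable def relB (ok : List ℕ → List ℕ → Bool) (t : ℕ) (af : List ℕ) (rels : List (List (List ℕ)))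
    (R : List (List ℕ)) (ms : List ℕ) : Bool :=
  forceLL ([] :: R) (run ok t af rels (one fun h => ok h []) ms)

theorem relB_spec (h : Tw γ s ok t af) {rels : List (List (List ℕ))} (hr : ∀ R ∈ rels, pt γ s R = 1)
    {R : List (List ℕ)} {ms : List ℕ} (hb : relB ok t af rels R ms = true) : pt γ s R = 1 := by
  unfold relB at hb
  rw [forceLL_eq] at hb
  obtain ⟨L, h1, h2⟩ := run_spec h hr hb
  obtain ⟨a, rfl, h3⟩ := one_spec h1
  rw [pt_cons, pt_cons, h.ok _ _ h3, pt_nil] at h2
  exact (mul_left_cancel h2).symm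

/-- data of a double coset: representative `pt d`, stabiliser generators with scripts, orbit
representatives `(k, u, j, script)`, rounds -/
structure DRep : Type where
  d : List (List ℕ)
  ms : List (List ℕ × List ℕ)
  ks : List (List ℕ × List ℕ × ℕ × List ℕ)
  r : ℕ

/-- `(pt d')⁻¹ ⋯ pt d` lies in `H` -/
noncomputable def memS (ok : List ℕ → List ℕ → Bool) (t : ℕ) (af : List ℕ) (rels : List (List (List ℕ)))
    (d' mid d : List (List ℕ)) (ms : List ℕ) : Bool :=
  forceLL (app (rvi d') (app mid d)) (run ok t af rels (one fun _ => true) ms)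

theorem memS_spec (h : Tw γ s ok t af) {rels : List (List (List ℕ))} (hr : ∀ R ∈ rels, pt γ s R = 1)
    {d' mid d : List (List ℕ)} {ms : List ℕ} (hb : memS ok t af rels d' mid d ms = true) :
    ∃ a, ew γ a = (pt γ s d')⁻¹ * s * pt γ s mid * pt γ s d := by
  unfold memS at hb
  rw [forceLL_eq] at hb
  obtain ⟨L, h1, h2⟩ := run_spec h hr hb
  obtain ⟨a, rfl, -⟩ := one_spec h1
  rw [pt_cons, pt_nil, mul_one, app_eq, app_eq, pt_append, pt_append, pt_rvi h.ss] at h2
  exact ⟨a, mul_left_cancel (a := s) (by rw [h2]; group)⟩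

/-- script of a stabiliser generator -/
noncomputable def stB (ok : List ℕ → List ℕ → Bool) (t : ℕ) (af : List ℕ) (rels : List (List (List ℕ)))
    (d : List (List ℕ)) (q : List ℕ × List ℕ) : Bool := memS ok t af rels d [q.1] d q.2

/-- script of an orbit representative -/
noncomputable def cvB (ok : List ℕ → List ℕ → Bool) (t : ℕ) (af : List ℕ) (rels : List (List (List ℕ)))
    (ds : List (List (List ℕ))) (d : List (List ℕ)) (q : List ℕ × List ℕ × ℕ × List ℕ) : Bool :=
  andB (Nat.blt q.2.2.1 ds.length) (memS ok t af rels (nthD [] ds q.2.2.1) [wi q.2.1, q.1] d q.2.2.2)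

/-- a code list as a product of one-letter words -/
def toP (l : List ℕ) : List ℕ := l.map fun c => 2 * (256 + c)

/-- all codes are small -/
noncomputable def sm (l : List ℕ) : Bool := allL l fun c => Nat.blt c 256

theorem pp_toP (A : List Net) {l : List ℕ} (h : sm l = true) : pp A (toP l) = ew (gp A) l := by
  induction l with
  | nil => rfl
  | cons c l ih =>
    have h' : andB (Nat.blt c 256) (sm l) = true := h
    simp only [andB_eq, Bool.and_eq_true, Nat.blt_eq] at h'
    rw [show toP (c :: l) = 2 * (256 + c) :: toP l from rfl, pp_cons, ew_cons, ih h'.2, sp_even,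
      wp_letter A h'.1]
    rfl

/-- the orbits of the stabiliser generators cover `O` -/
noncomputable def orbB (A : List Net) (β O : ℕ) (R : DRep) : Bool :=
  andB (allL R.ms fun q => sm q.1) <|
  subB O (orb A (R.ms.map fun q => toP q.1) R.r (orL (R.ks.map fun q => lapp1 A q.1 (Nat.shiftLeft 1 β))))

theorem dc_card {S : Type*} [Group S] [Finite S] {δ : ℕ → S} (hδ : closure (Set.range δ) = ⊤)
    {N : ℕ} {A : List Net} (hA : okA N A = true) (hl : A.length ≤ 128) {ρ : S →* Perm ℕ}
    (hρ : ∀ j, ρ (δ j) = gp A j) (φ : S →* Γ) (h : Tw (fun j => φ (δ j)) s ok t af)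
    {β O : ℕ} (hO : closedB A 0 β O = true)
    (hK : ∀ σ : S, ρ σ β = β → σ ∈ closure {y | ∃ j < af.length, δ (t + j) = y})
    {rels : List (List (List ℕ))} (hr : ∀ R ∈ rels, pt (fun j => φ (δ j)) s R = 1)
    {reps : List DRep} (h0 : [] ∈ reps.map DRep.d)
    (h1 : ∀ R ∈ reps, orbB A β O R = true)
    (h2 : ∀ R ∈ reps, ∀ q ∈ R.ms, stB ok t af rels R.d q = true)
    (h3 : ∀ R ∈ reps, ∀ q ∈ R.ks, cvB ok t af rels (reps.map DRep.d) R.d q = true)
    {ns : List ℕ} (hn : ns.length = reps.length)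
    (h4 : ∀ q ∈ reps.zip ns, 0 < q.2 ∧ q.2 ≤ Nat.card (closure {y | ∃ m ∈ q.1.ms, ew δ m.1 = y})) :
    Finite ↥(φ.range ⊔ zpowers s) ∧
      Nat.card ↥(φ.range ⊔ zpowers s) ≤ (ns.map fun n => Nat.card S / n).sum * Nat.card S := by
  set γ : ℕ → Γ := fun j => φ (δ j) with hγ
  have hew : ∀ a, ew γ a = φ (ew δ a) := fun a => (map_ew φ δ a).symm
  have hρe : ∀ a, ρ (ew δ a) = ew (gp A) a := fun a => by rw [map_ew]; congr 1; exact funext hρ
  have hst : ∀ R ∈ reps, closure {y | ∃ m ∈ R.ms, ew δ m.1 = y} ≤ (conjIn φ.range (pt γ s R.d)⁻¹).comap φ := by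
    intro R hR
    rw [closure_le]
    rintro _ ⟨m, hm, rfl⟩
    obtain ⟨a, e⟩ := memS_spec h hr (h2 R hR m hm)
    refine mem_comap.2 (mem_conjIn.2 (MonoidHom.mem_range.2 ⟨ew δ a, ?_⟩))
    rw [← hew, e, pt_cons, pt_nil, ← hew]
    calc _ = (pt γ s R.d)⁻¹ * (s * s) * ew γ m.1 * pt γ s R.d := by group
      _ = _ := by rw [h.ss]; group
  have hKs : ∀ κ : S, ρ κ β = β → s * φ κ * s ∈ φ.range := by
    intro κ hκ
    have : closure {y | ∃ j < af.length, δ (t + j) = y} ≤ (conjIn φ.range s).comap φ := by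
      rw [closure_le]
      rintro _ ⟨j, hj, rfl⟩
      refine mem_comap.2 (mem_conjIn.2 (MonoidHom.mem_range.2 ⟨Spor.lpG δ (af.getD j 0), ?_⟩))
      rw [map_lpG, ← h.tw j hj, h.inv]
    have := mem_conjIn.1 (mem_comap.1 (this (hK κ hκ)))
    rwa [h.inv] at this
  have hρK : ∀ σ, ρ σ ∈ K A 0 := fun σ => by
    have : (⊤ : Subgroup S) ≤ (K A 0).comap ρ := by
      rw [← hδ, closure_le]
      rintro _ ⟨j, rfl⟩
      exact mem_comap.2 ((hρ j).symm ▸ gp_mem_K A (Nat.zero_le j))
    exact this (mem_top σ)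
  let X : Set Γ := {x | ∃ k ∈ φ.range, ∃ R ∈ reps, (k * pt γ s R.d)⁻¹ * x ∈ φ.range}
  have hXs : ∀ x ∈ X, s * x ∈ X := by
    rintro x ⟨_, ⟨σ, rfl⟩, R, hR, hx⟩
    have b0 := h1 R hR
    unfold orbB at b0
    rw [andB_eq, Bool.and_eq_true] at b0
    have b1 := subB_spec b0.2 (closedB_spec hA hl hO (hρK σ⁻¹))
    obtain ⟨_, ⟨m, hm, rfl⟩, p, hp, e⟩ := reach_orb hA (Q := (closure {y | ∃ m ∈ R.ms, ew δ m.1 = y}).map ρ)
      (fun w hw => by
        obtain ⟨q, hq, rfl⟩ := List.mem_map.1 hw
        rw [pp_toP A (allL_spec b0.1 q hq), ← hρe]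
        exact mem_map_of_mem _ (subset_closure ⟨q, hq, rfl⟩)) _ _ _ b1
    obtain ⟨_, hv, hp'⟩ := testBit_orL hp
    obtain ⟨q, hq, rfl⟩ := List.mem_map.1 hv
    rw [testBit_lapp1 hA, testBit_shl_one, ← hρe] at hp'
    have b2 := hKs (σ * m * (ew δ q.1)⁻¹) (by
      rw [map_mul, map_mul, map_inv, Perm.mul_apply, Perm.mul_apply, Perm.inv_eq_iff_eq.2 hp'.symm, e, map_inv]
      simp)
    have b3 := mem_conjIn.1 (mem_comap.1 (inv_mem (hst R hR hm)))
    have b4 := h3 R hR q hq
    unfold cvB at b4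
    rw [andB_eq, Bool.and_eq_true, Nat.blt_eq] at b4
    obtain ⟨a, e4⟩ := memS_spec h hr b4.2
    have b5 : nthD [] (reps.map DRep.d) q.2.2.1 ∈ reps.map DRep.d := by
      rw [nthD_eq, List.getD_eq_getElem _ _ b4.1]; exact List.getElem_mem _
    obtain ⟨R', hR', e5⟩ := List.mem_map.1 b5
    rw [← e5, pt_cons, pt_cons, pt_nil, ew_wi] at e4
    refine ⟨_, mul_mem b2 ⟨ew δ q.2.1, rfl⟩, R', hR', ?_⟩
    have b6 := mul_mem (mul_mem (show ew γ a ∈ φ.range from ⟨_, (hew a).symm⟩) b3) hx
    convert b6 using 1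
    rw [e4, map_mul, map_mul, map_inv, map_inv, ← hew, ← hew]
    calc _ = (pt γ s R'.d)⁻¹ * (ew γ q.2.1)⁻¹ * s⁻¹ * ew γ q.1 * (φ m)⁻¹ * (φ σ)⁻¹ * x := by group
      _ = (pt γ s R'.d)⁻¹ * (s * s) * (ew γ q.2.1)⁻¹ * s * ew γ q.1 * (φ m)⁻¹ * (φ σ)⁻¹ * x := by
        rw [h.ss, h.inv, mul_one]
      _ = _ := by group
  have hXH : ∀ g ∈ φ.range, ∀ x ∈ X, g * x ∈ X := by
    rintro g hg x ⟨k, hk, R, hR, hx⟩
    exact ⟨g * k, mul_mem hg hk, R, hR, by convert hx using 1; group⟩
  let M : Subgroup Γ :=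
    { carrier := {g | ∀ x, x ∈ X ↔ g * x ∈ X}
      one_mem' := fun x => by rw [one_mul]
      mul_mem' := fun {a b} ha hb x => by rw [mul_assoc, ← ha, ← hb]
      inv_mem' := fun {a} ha x => by rw [ha (a⁻¹ * x), mul_inv_cancel_left] }
  have hM : φ.range ⊔ zpowers s ≤ M := by
    refine sup_le (fun g hg x => ⟨hXH g hg x, fun hx => ?_⟩) (zpowers_le.2 fun x => ⟨hXs x, fun hx => ?_⟩)
    · simpa using hXH _ (inv_mem hg) _ hx
    · have := hXs _ hx
      rwa [← mul_assoc, h.ss, one_mul] at this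
  have hX1 : (1 : Γ) ∈ X := by
    obtain ⟨R, hR, e⟩ := List.mem_map.1 h0
    exact ⟨1, one_mem _, R, hR, by rw [e, pt_nil]; simp⟩
  have key := card_le_of_cover φ (G := φ.range ⊔ zpowers s) ((reps.zip ns).map fun q => (pt γ s q.1.d, q.2))
    (fun q hq => by
      obtain ⟨q, hq', rfl⟩ := List.mem_map.1 hq
      exact ⟨(h4 q hq').1, (h4 q hq').2.trans (card_le_of_le (hst _ (List.of_mem_zip hq').1))⟩)
    (fun x hx => by
      obtain ⟨k, hk, R, hR, e⟩ := (hM hx 1).1 hX1
      rw [← List.map_fst_zip (l₁ := reps) (l₂ := ns) hn.ge] at hR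
      obtain ⟨q, hq, rfl⟩ := List.mem_map.1 hR
      exact ⟨k, hk, _, List.mem_map_of_mem hq, by simpa using e⟩)
  refine ⟨key.1, key.2.trans (le_of_eq ?_)⟩
  congr 2
  rw [List.map_map]
  conv_rhs => rw [← List.map_snd_zip (l₁ := reps) (l₂ := ns) hn.le, List.map_map]
  rfl

end Cfsg.Agent.Lib.Lyons
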