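import Cfsg.Agent.Lib.Lyons.DC

/-! Models of groups by permutations and matrices: order, word problem, stabilisers, lower bounds. -/

set_option autoImplicit false

namespace Cfsg.Agent.Lib.Lyons

open Cfsg.Agent.PG Cfsg.Agent.Spor Subgroup Equiv

section Perms

variable {N : ℕ} {A : List Net}

theorem ew_mem_K (A : List Net) (a : List ℕ) : ew (gp A) a ∈ K A 0 :=
  ew_mem fun _ _ => gp_mem_K A (Nat.zero_le _)

/-- the two words agree at the points of `B` -/
noncomputable def okP (A : List Net) (B : List ℕ) (a b : List ℕ) : Bool :=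
  allL B fun β => Nat.beq (lapp1 A a (Nat.shiftLeft 1 β)) (lapp1 A b (Nat.shiftLeft 1 β))

theorem okP_spec (hA : okA N A = true) {B : List ℕ} (hf : FixTriv (K A 0) {β | β ∈ B}) {a b : List ℕ}
    (h : okP A B a b = true) : ew (gp A) a = ew (gp A) b := by
  have := hf _ (mul_mem (ew_mem_K A b) (inv_mem (ew_mem_K A a))) fun β hβ => by
    have e := Nat.eq_of_beq_eq_true (allL_spec h β hβ)
    have h1 := testBit_lapp1 hA a (Nat.shiftLeft 1 β) ((ew (gp A) a)⁻¹ β)
    rw [e, testBit_lapp1 hA, show ew (gp A) a ((ew (gp A) a)⁻¹ β) = β by simp, (testBit_shl_one β β).2 rfl,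
      testBit_shl_one] at h1
    exact h1
  exact (mul_inv_eq_one.1 this).symm

/-- equations between words, tested on all points -/
noncomputable def permB (A : List Net) (lg : ℕ) (l : List Eqn) : Bool :=
  andB (allL l fun c => andB (sm c.1) (sm c.2)) (chk A lg (l.map fun c => (toP c.1, toP c.2)))

theorem permB_spec {lg : ℕ} (hA : okA (2 ^ lg) A = true) {l : List Eqn} (h : permB A lg l = true) :
    ∀ c ∈ l, Sat (gp A) c := by
  unfold permB at h
  rw [andB_eq, Bool.and_eq_true] at h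
  intro c hc
  have h1 := allL_spec h.1 c hc
  rw [andB_eq, Bool.and_eq_true] at h1
  have h2 : pp A (toP c.1) = pp A (toP c.2) := chk_spec hA h.2 _ (List.mem_map_of_mem hc)
  rwa [pp_toP A h1.1, pp_toP A h1.2] at h2

theorem lbQ_aux (hA : okA N A = true) {l : ℕ} {gens : List (List ℕ)} {Q : Subgroup (Perm ℕ)}
    [Finite Q] (hg : ∀ g ∈ gens, pp A g ∈ Q) {lv : List (ℕ × ℕ × ℕ × ℕ)} {fx : List ℕ}
    (h : lbQ A l gens lv fx = true) :
    lvProd lv * Nat.card ↥(Q ⊓ fixL (lv.map Prod.fst ++ fx)) ≤ Nat.card ↥(Q ⊓ fixL fx) := by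
  induction lv generalizing fx with
  | nil => simp [lvProd]
  | cons q lv ih =>
    have h' : (andB (fixB A (gens.drop q.2.1) fx) <|
      andB (force (orb A (gens.drop q.2.1) q.2.2.1 (Nat.shiftLeft 1 q.1))
        fun O => cardB l O q.2.2.2) <| lbQ A l gens lv (q.1 :: fx)) = true := h
    simp only [andB_eq, force_eq, Bool.and_eq_true] at h'
    obtain ⟨a1, a3, a4⟩ := h'
    have e : Q ⊓ fixL (q.1 :: fx) = Q ⊓ fixL fx ⊓ stabB (Nat.shiftLeft 1 q.1) := by
      ext σ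
      simp only [mem_inf, mem_fixL, stabB_shl, List.forall_mem_cons]
      tauto
    have e' : fixL ((q :: lv).map Prod.fst ++ fx) = fixL (lv.map Prod.fst ++ q.1 :: fx) := by
      ext σ
      simp only [mem_fixL, List.map_cons, List.cons_append, List.forall_mem_cons, List.forall_mem_append]
      tauto
    have b3 := ih a4
    rw [e] at b3
    rw [e', show lvProd (q :: lv) = q.2.2.2 * lvProd lv from rfl, mul_assoc, card_eq_orbit_mul (Q ⊓ fixL fx) q.1]
    apply Nat.mul_le_mul _ b3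
    rw [← cardB_spec a3]
    have hfin : {i | ∃ σ ∈ Q ⊓ fixL fx, σ q.1 = i}.Finite := by
      have : Finite ↥(Q ⊓ fixL fx) := finite_of_le inf_le_left
      have e : {i | ∃ σ ∈ Q ⊓ fixL fx, σ q.1 = i} =
          Set.range (fun σ : ↥(Q ⊓ fixL fx) => (σ : Perm ℕ) q.1) := by
        ext i; simp only [Set.mem_ofPred_eq, Set.mem_range, Subtype.exists, exists_prop]
      rw [e]; exact Set.finite_range _
    apply Set.ncard_le_ncard _ hfin
    intro i hi
    obtain ⟨σ, hσ, j, hj, rfl⟩ := reach_orb hA (Q := Q ⊓ fixL fx) (fun g hg' =>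
      ⟨hg g (List.mem_of_mem_drop hg'), fixB_spec hA a1 g hg'⟩) _ _ i hi
    rw [testBit_shl_one] at hj
    exact ⟨σ, hσ, by rw [hj]⟩

/-- a chain that reaches the order gives a base -/
theorem fixTriv_lbQ (hA : okA N A = true) {l : ℕ} {gens : List (List ℕ)} {Q : Subgroup (Perm ℕ)}
    [Finite Q] (hg : ∀ g ∈ gens, pp A g ∈ Q) {lv : List (ℕ × ℕ × ℕ × ℕ)} (h : lbQ A l gens lv [] = true)
    (hc : Nat.card Q ≤ lvProd lv) {B : Set ℕ} (hB : ∀ q ∈ lv, q.1 ∈ B) : FixTriv Q B := by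
  have h1 := lbQ_aux hA hg h
  rw [show Q ⊓ fixL [] = Q from inf_eq_left.2 fun σ _ b hb => by cases hb] at h1
  have : Finite ↥(Q ⊓ fixL (lv.map Prod.fst ++ [])) := finite_of_le inf_le_left
  have h2 : 0 < Nat.card Q := Nat.card_pos
  have h3 : Nat.card ↥(Q ⊓ fixL (lv.map Prod.fst ++ [])) ≤ 1 := by
    by_contra h4
    nlinarith
  intro σ hσ hf
  rw [← mem_bot, ← eq_bot_of_card_le _ h3]
  refine ⟨hσ, mem_fixL.2 fun b hb => ?_⟩
  rw [List.append_nil] at hb
  obtain ⟨q, hq, rfl⟩ := List.mem_map.1 hb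
  exact hf _ (hB q hq)

theorem toP_mem {ws : List (List ℕ)} (hs : allL ws sm = true) {Q : Subgroup (Perm ℕ)}
    (h : ∀ w ∈ ws, ew (gp A) w ∈ Q) : ∀ g ∈ ws.map toP, pp A g ∈ Q := fun g hg => by
  obtain ⟨w, hw, rfl⟩ := List.mem_map.1 hg
  rw [pp_toP A (allL_spec hs w hw)]
  exact h w hw

/-- lower bound for the whole permutation group -/
theorem lb_K (hA : okA N A = true) {l : ℕ} {ws : List (List ℕ)} (hs : allL ws sm = true)
    {lv : List (ℕ × ℕ × ℕ × ℕ)} (h : lbQ A l (ws.map toP) lv [] = true) : lvProd lv ≤ Nat.card (K A 0) :=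
  have := finite_K hA 0
  lbQ_nil hA (toP_mem hs fun w _ => ew_mem_K A w) h

theorem fixTriv_K (hA : okA N A = true) {l : ℕ} {ws : List (List ℕ)} (hs : allL ws sm = true)
    {lv : List (ℕ × ℕ × ℕ × ℕ)} (h : lbQ A l (ws.map toP) lv [] = true) (hc : Nat.card (K A 0) = lvProd lv) :
    FixTriv (K A 0) {β | β ∈ lv.map Prod.fst} :=
  have := finite_K hA 0
  fixTriv_lbQ hA (toP_mem hs fun w _ => ew_mem_K A w) h hc.le fun _ hq => List.mem_map_of_mem hq

end Perms

section Generic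

variable {S : Type*} [Group S] {δ : ℕ → S} {N : ℕ} {A : List Net} {ρ : S →* Perm ℕ}

theorem hom_ew {Δ : Type*} [Group Δ] {f : S →* Δ} {γ : ℕ → Δ} (h : ∀ j, f (δ j) = γ j) (a : List ℕ) :
    f (ew δ a) = ew γ a := by
  rw [map_ew]; congr 1; exact funext h

theorem range_eq_K (hδ : closure (Set.range δ) = ⊤) (hρ : ∀ j, ρ (δ j) = gp A j) : ρ.range = K A 0 := by
  rw [MonoidHom.range_eq_map, ← hδ, MonoidHom.map_closure, K]
  congr 1
  ext σ
  constructor
  · rintro ⟨_, ⟨j, rfl⟩, rfl⟩; exact ⟨j, Nat.zero_le j, (hρ j).symm⟩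
  · rintro ⟨j, -, rfl⟩; exact ⟨_, ⟨j, rfl⟩, hρ j⟩

theorem card_eq_map_mul {Δ : Type*} [Group Δ] (f : S →* Δ) (Q : Subgroup S) :
    Nat.card Q = Nat.card (Q.map f) * Nat.card ↥(Q ⊓ f.ker) := by
  rw [← relIndex_ker, relIndex, ← card_mul_index (f.ker.subgroupOf Q), mul_comm, ← inf_subgroupOf_left,
    Nat.card_congr (subgroupOfEquivOfLe inf_le_left).toEquiv]

theorem ker_eq [Finite S] (hδ : closure (Set.range δ) = ⊤) (hρ : ∀ j, ρ (δ j) = gp A j) {m k : ℕ}
    (hS : Nat.card S ≤ m * k) (hm : m ≤ Nat.card (K A 0)) {z : S} (hz : ρ z = 1) (hk : orderOf z = k) :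
    Nat.card S = m * k ∧ Nat.card (K A 0) = m ∧ ρ.ker = zpowers z := by
  have h1 := card_eq_map_mul ρ ⊤
  rw [card_top, ← MonoidHom.range_eq_map, range_eq_K hδ hρ, top_inf_eq] at h1
  have h2 : zpowers z ≤ ρ.ker := zpowers_le.2 hz
  have h3 := card_le_of_le h2
  rw [Nat.card_zpowers, hk] at h3
  have h4 : 0 < k := hk ▸ orderOf_pos z
  have h5 : 0 < Nat.card S := Nat.card_pos
  have h6 : 0 < m := Nat.pos_of_mul_pos_right (h5.trans_le hS)
  have h7 := Nat.mul_le_mul hm h3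
  refine ⟨by omega, by nlinarith, (eq_of_le_of_card_ge h2 ?_).symm⟩
  rw [Nat.card_zpowers, hk]
  nlinarith

theorem ew_mem_inK {t : ℕ} {af w : List ℕ} (h : inK t af w = true) :
    ew δ w ∈ closure {y | ∃ j < af.length, δ (t + j) = y} := ew_mem fun c hc => by
  have h1 := allL_spec h c hc
  simp only [andB_eq, Bool.and_eq_true, Nat.ble_eq, Nat.blt_eq] at h1
  have h2 : t ≤ c / 2 := h1.1
  have h3 : c / 2 < t + af.length := h1.2
  exact subset_closure ⟨c / 2 - t, by omega, by congr 1; omega⟩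

/-- the stabiliser of `β` lies in `Q` -/
theorem stab_mem (hδ : closure (Set.range δ) = ⊤) (hA : okA N A = true) (hρ : ∀ j, ρ (δ j) = gp A j)
    {l β r s : ℕ} (ho : orbCardB A l 0 β r s = true) {ws : List (List ℕ)} (hs : allL ws sm = true)
    {lv : List (ℕ × ℕ × ℕ × ℕ)} (h : lbQ A l (ws.map toP) lv [β] = true)
    (hc : Nat.card (K A 0) = s * lvProd lv) {Q : Subgroup S} (hw : ∀ w ∈ ws, ew δ w ∈ Q) (hk : ρ.ker ≤ Q)
    (σ : S) (hσ : ρ σ β = β) : σ ∈ Q := by
  have := finite_K hA 0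
  have hle : Q.map ρ ≤ K A 0 := range_eq_K hδ hρ ▸ map_le_range ρ Q
  have : Finite (Q.map ρ) := finite_of_le hle
  have h1 := lbQ_spec hA (Q := Q.map ρ) (toP_mem hs fun w hw' => hom_ew hρ w ▸ mem_map_of_mem ρ (hw w hw')) h
  have h2 := card_eq_orbit_mul (K A 0) β
  have h3 : 0 < s * lvProd lv := hc ▸ Nat.card_pos
  rw [orbCardB_spec hA ho, hc] at h2
  have h4 := Nat.eq_of_mul_eq_mul_left (Nat.pos_of_mul_pos_right h3) h2
  have : Finite ↥(K A 0 ⊓ stabB (Nat.shiftLeft 1 β)) := finite_of_le inf_le_left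
  have h5 : Q.map ρ ⊓ fixL [β] = K A 0 ⊓ stabB (Nat.shiftLeft 1 β) :=
    eq_of_le_of_card_ge (fun σ hσ => ⟨hle hσ.1, stabB_shl.2 (hσ.2 β List.mem_cons_self)⟩) (h4 ▸ h1)
  have h6 : ρ σ ∈ Q.map ρ ⊓ fixL [β] := h5 ▸ ⟨range_eq_K hδ hρ ▸ ⟨σ, rfl⟩, stabB_shl.2 hσ⟩
  have h7 : σ ∈ (Q.map ρ).comap ρ := h6.1
  rwa [comap_map_eq, sup_eq_left.2 hk] at h7

/-- the hypothesis `hK` of `dc_card` -/
theorem stab_closure (hδ : closure (Set.range δ) = ⊤) (hA : okA N A = true) (hρ : ∀ j, ρ (δ j) = gp A j)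
    {l β r s t : ℕ} {af : List ℕ} (ho : orbCardB A l 0 β r s = true) {ws : List (List ℕ)}
    (hs : allL ws sm = true) (hi : allL ws (inK t af) = true) {lv : List (ℕ × ℕ × ℕ × ℕ)}
    (h : lbQ A l (ws.map toP) lv [β] = true) (hc : Nat.card (K A 0) = s * lvProd lv) {zw : List ℕ}
    (hk : ρ.ker = zpowers (ew δ zw)) (hz : inK t af zw = true) :
    ∀ σ : S, ρ σ β = β → σ ∈ closure {y | ∃ j < af.length, δ (t + j) = y} :=
  stab_mem hδ hA hρ ho hs h hc (fun w hw => ew_mem_inK (allL_spec hi w hw))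
    (hk ▸ zpowers_le.2 (ew_mem_inK hz))

theorem lb_map [Finite S] (hA : okA N A = true) (hρ : ∀ j, ρ (δ j) = gp A j) {l : ℕ} {ws : List (List ℕ)}
    (hs : allL ws sm = true) {lv : List (ℕ × ℕ × ℕ × ℕ)} (h : lbQ A l (ws.map toP) lv [] = true)
    {Q : Subgroup S} (hw : ∀ w ∈ ws, ew δ w ∈ Q) : lvProd lv ≤ Nat.card (Q.map ρ) :=
  have : Finite (Q.map ρ) := Finite.of_surjective _ (ρ.subgroupMap_surjective Q)
  lbQ_nil hA (toP_mem hs fun w hw' => hom_ew hρ w ▸ mem_map_of_mem ρ (hw w hw')) h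

theorem lb_sub [Finite S] (hA : okA N A = true) (hρ : ∀ j, ρ (δ j) = gp A j) {l : ℕ} {ws : List (List ℕ)}
    (hs : allL ws sm = true) {lv : List (ℕ × ℕ × ℕ × ℕ)} (h : lbQ A l (ws.map toP) lv [] = true)
    {Q : Subgroup S} (hw : ∀ w ∈ ws, ew δ w ∈ Q) : lvProd lv ≤ Nat.card Q := by
  rw [card_eq_map_mul ρ Q]
  exact (lb_map hA hρ hs h hw).trans (Nat.le_mul_of_pos_right _ Nat.card_pos)

theorem lb_sub_mul [Finite S] (hA : okA N A = true) (hρ : ∀ j, ρ (δ j) = gp A j) {l : ℕ} {ws : List (List ℕ)}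
    (hs : allL ws sm = true) {lv : List (ℕ × ℕ × ℕ × ℕ)} (h : lbQ A l (ws.map toP) lv [] = true)
    {Q : Subgroup S} (hw : ∀ w ∈ ws, ew δ w ∈ Q) {z : S} (hz : ρ z = 1) (hQ : z ∈ Q) :
    lvProd lv * orderOf z ≤ Nat.card Q := by
  rw [card_eq_map_mul ρ Q, ← Nat.card_zpowers]
  exact Nat.mul_le_mul (lb_map hA hρ hs h hw) (card_le_of_le (zpowers_le.2 ⟨hQ, hz⟩))

/-- lower bound for the stabiliser generators of a double coset; the flag says that `zw` is one of them -/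
noncomputable def lbD (A : List Net) (l : ℕ) (zw : List ℕ) (R : DRep) (q : List (ℕ × ℕ × ℕ × ℕ) × Bool) : Bool :=
  andB (allL (R.ms.map Prod.fst) sm) <| andB (Nat.blt 0 (lvProd q.1)) <|
  andB (iteB q.2 (List.elem zw (R.ms.map Prod.fst)) true) <| lbQ A l ((R.ms.map Prod.fst).map toP) q.1 []

/-- the bound -/
noncomputable def lbN (k : ℕ) (q : List (ℕ × ℕ × ℕ × ℕ) × Bool) : ℕ := Nat.mul (lvProd q.1) (iteB q.2 k 1)

theorem lbD_spec [Finite S] (hA : okA N A = true) (hρ : ∀ j, ρ (δ j) = gp A j) {l k : ℕ} {zw : List ℕ}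
    (hz : ρ (ew δ zw) = 1) (hk : orderOf (ew δ zw) = k) {R : DRep} {q : List (ℕ × ℕ × ℕ × ℕ) × Bool}
    (h : lbD A l zw R q = true) :
    0 < lbN k q ∧ lbN k q ≤ Nat.card (closure {y | ∃ m ∈ R.ms, ew δ m.1 = y}) := by
  unfold lbD at h
  simp only [andB_eq, Bool.and_eq_true, Nat.blt_eq] at h
  obtain ⟨h1, h2, h3, h4⟩ := h
  have hw : ∀ w ∈ R.ms.map Prod.fst, ew δ w ∈ closure {y | ∃ m ∈ R.ms, ew δ m.1 = y} := fun w hw => by
    obtain ⟨m, hm, rfl⟩ := List.mem_map.1 hw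
    exact subset_closure ⟨m, hm, rfl⟩
  obtain ⟨lv, _ | _⟩ := q
  · exact ⟨Nat.mul_pos h2 one_pos, (mul_one _).trans_le (lb_sub hA hρ h1 h4 hw)⟩
  · exact ⟨Nat.mul_pos h2 (hk ▸ orderOf_pos _),
      hk ▸ lb_sub_mul hA hρ h1 h4 hw hz (hw _ (List.mem_of_elem_eq_true h3))⟩

/-- the hypothesis `h4` of `dc_card`, with `ns = lvs.map (lbN k)` -/
theorem h4_of [Finite S] (hA : okA N A = true) (hρ : ∀ j, ρ (δ j) = gp A j) {l k : ℕ} {zw : List ℕ}
    (hz : ρ (ew δ zw) = 1) (hk : orderOf (ew δ zw) = k) {reps : List DRep}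
    {lvs : List (List (ℕ × ℕ × ℕ × ℕ) × Bool)} (h : ∀ q ∈ reps.zip lvs, lbD A l zw q.1 q.2 = true) :
    ∀ q ∈ reps.zip (lvs.map (lbN k)), 0 < q.2 ∧ q.2 ≤ Nat.card (closure {y | ∃ m ∈ q.1.ms, ew δ m.1 = y}) := by
  intro q hq
  rw [List.zip_map_right] at hq
  obtain ⟨q, hq', rfl⟩ := List.mem_map.1 hq
  exact lbD_spec hA hρ hz hk (h q hq')

variable {P : Par} {L : Lets} {μ : S →* GL (Fin P.n) (ZMod P.p)}

/-- the two words agree at the points of `B` and in one row -/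
noncomputable def okM (A : List Net) (P : Par) (L : Lets) (B : List ℕ) (on cm lo X : ℕ) (a b : List ℕ) : Bool :=
  andB (okP A B a b) (eqT P on (lev (apM P L on cm lo) a X) (lev (apM P L on cm lo) b X))

/-- the test for row `r` -/
noncomputable def okM' (A : List Net) (P : Par) (L : Lets) (B : List ℕ) (r : ℕ) : List ℕ → List ℕ → Bool :=
  okM A P L B (ones P.w (Nat.mul 1 P.n)) (Nat.mul (msk P.w) (ones (Nat.mul P.w P.n) 1))
    (Nat.mul (msk P.k) (ones P.w P.n)) (idS P r 1)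

/-- evaluate the constants of the test -/
noncomputable def withOk (A : List Net) (P : Par) (L : Lets) (B : List ℕ) (r : ℕ)
    (f : (List ℕ → List ℕ → Bool) → Bool) : Bool :=
  force (ones P.w (Nat.mul 1 P.n)) fun on =>
  force (Nat.mul (msk P.w) (ones (Nat.mul P.w P.n) 1)) fun cm =>
  force (Nat.mul (msk P.k) (ones P.w P.n)) fun lo => force (idS P r 1) fun X => f (okM A P L B on cm lo X)

theorem withOk_eq (A : List Net) (P : Par) (L : Lets) (B : List ℕ) (r : ℕ) (f : (List ℕ → List ℕ → Bool) → Bool) :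
    withOk A P L B r f = f (okM' A P L B r) := by
  unfold withOk okM'
  simp only [force_eq]

theorem okM_spec (hA : okA N A = true) (hL : Good P L) (hρ : ∀ j, ρ (δ j) = gp A j) (hμ : ∀ j, μ (δ j) = gam P L j)
    {B : List ℕ} (hf : FixTriv (K A 0) {β | β ∈ B}) {z : S} (hker : ρ.ker = zpowers z) {k : ℕ} (k0 : 0 < k)
    (hk : z ^ k = 1) {r : Fin P.n}
    (hr : ∀ e, 0 < e → e < k → (μ (z ^ e)).1 r ≠ (1 : GL (Fin P.n) (ZMod P.p)).1 r) {a b : List ℕ}
    (h : okM' A P L B r a b = true) : ew δ a = ew δ b := by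
  unfold okM' okM at h
  rw [andB_eq, Bool.and_eq_true] at h
  have h1 := okP_spec hA hf h.1
  have h2 := eqT_spec hL.1 (levM_spec hL (r0 := r) (m := 1) r.2 a) (levM_spec hL (r0 := r) (m := 1) r.2 b) h.2 r
    le_rfl (Nat.lt_succ_self _)
  have h3 : ew δ a * (ew δ b)⁻¹ ∈ zpowers z := by
    rw [← hker, MonoidHom.mem_ker, map_mul, map_inv, hom_ew hρ, hom_ew hρ, h1, mul_inv_cancel]
  rw [← (isOfFinOrder_iff_pow_eq_one.2 ⟨k, k0, hk⟩).mem_powers_iff_mem_zpowers] at h3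
  obtain ⟨e, he⟩ := h3
  have he' : z ^ (e % k) * ew δ b = ew δ a := by
    rw [← pow_eq_pow_mod e hk, show z ^ e = _ from he, inv_mul_cancel_right]
  by_contra hne
  refine hr (e % k) (Nat.pos_of_ne_zero fun e0 => hne ?_) (Nat.mod_lt e k0) (row_cancel (M := μ (ew δ b)) ?_)
  · rw [← he', e0, pow_zero, one_mul]
  · rw [← map_mul, he', hom_ew hμ, hom_ew hμ]
    exact h2

/-- row `r` of the powers `zw ^ e`, `0 < e < k`, differs from the identity at the `e`-th entry of `ss` -/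
noncomputable def rowsN (P : Par) (L : Lets) (r : ℕ) (ss zw : List ℕ) (k : ℕ) : Bool :=
  allN k fun e => orB (Nat.beq e 0) (rowN P L r (nthD 0 ss e) (wpow zw e))

theorem rowsN_spec (hL : Good P L) (hμ : ∀ j, μ (δ j) = gam P L j) {r : Fin P.n} {ss zw : List ℕ} {k : ℕ}
    (h : rowsN P L r ss zw k = true) :
    ∀ e, 0 < e → e < k → (μ (ew δ zw ^ e)).1 r ≠ (1 : GL (Fin P.n) (ZMod P.p)).1 r := by
  intro e h1 h2
  have h3 := allN_spec h e h2
  rw [orB_eq, Bool.or_eq_true] at h3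
  rw [← ew_wpow, hom_ew hμ]
  exact rowN_spec hL (h3.resolve_left fun e0 => h1.ne' (Nat.eq_of_beq_eq_true e0))

theorem orderOf_rowsN (hL : Good P L) (hμ : ∀ j, μ (δ j) = gam P L j) {r : Fin P.n} {ss zw : List ℕ} {k : ℕ}
    (h : rowsN P L r ss zw k = true) (k0 : 0 < k) (hk : ew δ zw ^ k = 1) : orderOf (ew δ zw) = k :=
  (orderOf_eq_iff k0).2 ⟨hk, fun e h1 h2 e1 => rowsN_spec hL hμ h e h2 h1 (by rw [e1, map_one])⟩

/-- the oracle for a kernel generated by a word -/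
theorem okM_word (hA : okA N A = true) (hL : Good P L) (hρ : ∀ j, ρ (δ j) = gp A j) (hμ : ∀ j, μ (δ j) = gam P L j)
    {B : List ℕ} (hf : FixTriv (K A 0) {β | β ∈ B}) {zw : List ℕ} (hker : ρ.ker = zpowers (ew δ zw)) {k : ℕ}
    (k0 : 0 < k) (hk : ew δ zw ^ k = 1) {r : Fin P.n} {ss : List ℕ} (hr : rowsN P L r ss zw k = true) :
    ∀ a b, okM' A P L B r a b = true → ew δ a = ew δ b := fun _ _ h =>
  okM_spec hA hL hρ hμ hf hker k0 hk (rowsN_spec hL hμ hr) h

/-- transport of an oracle along a homomorphism (the field `Tw.ok`) -/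
theorem ok_map {Γ : Type*} [Group Γ] (φ : S →* Γ) {ok : List ℕ → List ℕ → Bool}
    (h : ∀ a b, ok a b = true → ew δ a = ew δ b) :
    ∀ a b, ok a b = true → ew (fun j => φ (δ j)) a = ew (fun j => φ (δ j)) b := fun a b e => by
  rw [← map_ew, ← map_ew, h a b e]

end Generic

section Model

variable (A : List Net) (P : Par) (L : Lets)

/-- the letters of the model -/
noncomputable def md0 (j : ℕ) : Perm ℕ × GL (Fin P.n) (ZMod P.p) := (gp A j, gam P L j)

/-- the model -/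
noncomputable def MS : Subgroup (Perm ℕ × GL (Fin P.n) (ZMod P.p)) := closure (Set.range (md0 A P L))

/-- the letters as members of the model -/
noncomputable def md (j : ℕ) : MS A P L := ⟨md0 A P L j, subset_closure ⟨j, rfl⟩⟩

/-- the permutation part -/
noncomputable def mρ : MS A P L →* Perm ℕ := (MonoidHom.fst _ _).comp (MS A P L).subtype

/-- the matrix part -/
noncomputable def mμ : MS A P L →* GL (Fin P.n) (ZMod P.p) := (MonoidHom.snd _ _).comp (MS A P L).subtype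

theorem mρ_md (j : ℕ) : mρ A P L (md A P L j) = gp A j := rfl

theorem mμ_md (j : ℕ) : mμ A P L (md A P L j) = gam P L j := rfl

theorem md_val (j : ℕ) : (MS A P L).subtype (md A P L j) = md0 A P L j := rfl

theorem md_top : closure (Set.range (md A P L)) = ⊤ := by
  apply map_injective (MS A P L).subtype_injective
  rw [MonoidHom.map_closure, ← MonoidHom.range_eq_map, range_subtype, ← Set.range_comp]
  rfl

theorem mρ_range : (mρ A P L).range = K A 0 := range_eq_K (md_top A P L) (mρ_md A P L)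

theorem md_of_le {j : ℕ} (h1 : A.length ≤ j) (h2 : L.length ≤ j) : md A P L j = 1 :=
  Subtype.ext (Prod.ext (gp_of_le h1) (gam_of_le P h2))

variable {A P L}

theorem MS_ext {x y : MS A P L} (h1 : mρ A P L x = mρ A P L y) (h2 : mμ A P L x = mμ A P L y) : x = y :=
  Subtype.ext (Prod.ext h1 h2)

theorem sat_md {c : Eqn} (h1 : Sat (gp A) c) (h2 : Sat (gam P L) c) : Sat (md A P L) c :=
  MS_ext (by rw [hom_ew (mρ_md A P L), hom_ew (mρ_md A P L)]; exact h1)
    (by rw [hom_ew (mμ_md A P L), hom_ew (mμ_md A P L)]; exact h2)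

theorem MS_finite {N : ℕ} (hA : okA N A = true) (hL : Good P L) : Finite (MS A P L) := by
  have := finite_K hA 0
  have : NeZero P.p := ⟨by have := hL.1.2.2.2.1; omega⟩
  refine Finite.of_injective (fun x => ((⟨mρ A P L x, mρ_range A P L ▸ ⟨x, rfl⟩⟩ : K A 0), mμ A P L x))
    fun x y e => MS_ext (congrArg Subtype.val (Prod.ext_iff.1 e).1) (Prod.ext_iff.1 e).2

/-- the model is generated by any set of indices containing those inside the lists -/
theorem md_image_top {J : Set ℕ} (hJ : ∀ j, j < A.length ∨ j < L.length → j ∈ J) :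
    closure (md A P L '' J) = ⊤ := by
  rw [eq_top_iff, ← md_top, closure_le]
  rintro _ ⟨j, rfl⟩
  by_cases h : j < A.length ∨ j < L.length
  · exact subset_closure ⟨j, hJ j h, rfl⟩
  · rw [md_of_le A P L (by omega) (by omega)]
    exact one_mem _

end Model

end Cfsg.Agent.Lib.Lyons
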